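import Cfsg.Agent.H235.Ore.He
import Cfsg.Agent.H235.Ore.McL
import Cfsg.Agent.H210.TC.Row

/-!
# S4173, S2464, S2452: the Held group (`x` of order `17`) and the McLaughlin group (`x` of order `11`) (helper235)

* `row3_he {S} (h : Spor.IsoHe S) : H210.TC.Row3 S`
* `row3_mcl {S} (h : Spor.IsoMcL S) : H210.TC.Row3 S`
-/

set_option autoImplicit false
set_option maxRecDepth 100000

namespace Cfsg.Agent.H235.TC.Sp

universe u

/-- a product of two conjugates of `x` -/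
def P2 {G : Type*} [Group G] (x g : G) : Prop := ∃ u v : G, g = (u * x * u⁻¹) * (v * x * v⁻¹)

theorem P2.conj {G : Type*} [Group G] {x g g' : G} (h : P2 x g) (e : IsConj g g') : P2 x g' := by
  obtain ⟨c, rfl⟩ := isConj_iff.1 e
  obtain ⟨u, v, rfl⟩ := h
  exact ⟨c * u, c * v, by group⟩

/-- real `x` -/
theorem P2.inv {G : Type*} [Group G] {x t g : G} (ht : t * x * t⁻¹ = x⁻¹) (h : P2 x g) : P2 x g⁻¹ := by
  obtain ⟨u, v, rfl⟩ := h
  refine ⟨v * t, u * t, ?_⟩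
  rw [show v * t * x * (v * t)⁻¹ = v * (t * x * t⁻¹) * v⁻¹ by group,
    show u * t * x * (u * t)⁻¹ = u * (t * x * t⁻¹) * u⁻¹ by group, ht]
  group

theorem P2.one {G : Type*} [Group G] {x t : G} (ht : t * x * t⁻¹ = x⁻¹) : P2 x 1 :=
  ⟨1, t, by rw [ht]; group⟩

end Cfsg.Agent.H235.TC.Sp

/-! ### The Held group -/

namespace Cfsg.Agent.H235.TC.He

open Subgroup
open Cfsg.Spor.He (Gen)
open Cfsg.Agent.SporadicB.HePerm (act wd phi phi_wd_apply allBelow of_allBelow)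
open Cfsg.Agent.FixBN.HeStab Cfsg.Agent.KFacts.He.Lv Cfsg.Agent.CpAutHe.Cnt
open Cfsg.Agent.H235.Ore.HeEng Cfsg.Agent.H235.Ore.HeCert Cfsg.Agent.H235.Ore.ClassList
open Cfsg.Agent.H153.Zeros.He17 (hasOrd_word W17 o17 card_cent_eq)
open Cfsg.Agent.H587.NR.He (wd_reverse)
open Cfsg.Agent.H19.Odd.HeCnt (XB XC)
open Cfsg.Agent.H235.Ore.He Cfsg.Agent.H235.TC.Sp

theorem w_inv : wd [.c, .f] * wd W17 * (wd [.c, .f])⁻¹ = (wd W17)⁻¹ := by
  have h := eq_of_chkB (show chkB ([.c, .f] ++ W17) (W17.reverse ++ [.c, .f]) = true by decide +kernel)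
  rw [wd_append, wd_append, wd_reverse] at h
  rw [h, mul_inv_cancel_right]

theorem p_of {X U V : List Gen} (h : chkB X (U ++ (W17 ++ (U.reverse ++ (V ++ (W17 ++ V.reverse))))) = true) :
    P2 (wd W17) (wd X) := by
  have h1 := eq_of_chkB h
  rw [wd_append, wd_append, wd_append, wd_append, wd_append, wd_reverse, wd_reverse] at h1
  exact ⟨wd U, wd V, by rw [h1]; group⟩

theorem p2A : P2 (wd W17) (wd x2A) := p_of (U := [.c, .b, .c, .d, .g, .f, .d, .g, .b])
  (V := [.c, .b, .c, .d, .g, .f, .d, .g, .b, .e, .a, .c]) (by decide +kernel)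
theorem p2B : P2 (wd W17) (wd x2B) := p_of (U := [.f, .d, .g, .d])
  (V := [.f, .d, .g, .d, .e, .c]) (by decide +kernel)
theorem p3A : P2 (wd W17) (wd x3A) := p_of (U := [.f, .e])
  (V := [.c]) (by decide +kernel)
theorem p5A : P2 (wd W17) (wd x5A) := p_of (U := [.c, .f, .d, .c, .d, .b])
  (V := [.c, .f, .d, .c, .d]) (by decide +kernel)
theorem p4B : P2 (wd W17) (wd x4B) := p_of (U := [.d, .f, .g, .d])
  (V := [.d, .f, .g, .d, .c, .g, .f]) (by decide +kernel)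
theorem p4C : P2 (wd W17) (wd x4C) := p_of (U := [.g, .d, .a, .c, .b, .d, .a, .g, .d])
  (V := [.g, .d, .a, .c, .b, .d, .a, .g, .d, .g, .d, .c, .b, .f, .d, .e, .d, .a]) (by decide +kernel)
theorem p6A : P2 (wd W17) (wd x6A) := p_of (U := [.g, .d, .f, .e])
  (V := [.g, .d, .e, .g, .d, .b, .a, .f]) (by decide +kernel)
theorem p4A : P2 (wd W17) (wd x4A) := p_of (U := [.d, .c, .d, .g, .f, .d, .c, .e, .g, .d, .f])
  (V := [.d, .c, .d, .g, .f, .d, .c, .e, .g, .c, .e, .b, .a, .c, .f, .d, .e]) (by decide +kernel)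
theorem p7A : P2 (wd W17) (wd x7A) := p_of (U := [.e, .d, .c, .g])
  (V := [.e, .g, .f, .d]) (by decide +kernel)
theorem p7D : P2 (wd W17) (wd x7D) := p_of (U := [.f, .g, .d, .f, .g, .d, .e])
  (V := [.f, .g, .d, .f, .g, .d, .b, .c, .d, .f, .d, .e, .g, .b, .c]) (by decide +kernel)
theorem p8A : P2 (wd W17) (wd x8A) := p_of (U := [.f, .d, .e, .g, .d, .a])
  (V := [.f, .d, .e, .g, .a, .b, .e, .f, .a]) (by decide +kernel)
theorem p10A : P2 (wd W17) (wd x10A) := p_of (U := [.g, .d, .c, .d, .f, .c])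
  (V := [.g, .d, .c, .d, .a, .b, .c, .g, .a]) (by decide +kernel)
theorem p12A : P2 (wd W17) (wd x12A) := p_of (U := [.d, .c, .e, .d, .f])
  (V := [.d, .c, .e, .g, .f, .d]) (by decide +kernel)
theorem p12B : P2 (wd W17) (wd x12B) := p_of (U := [.a, .f, .e, .d, .b, .c, .b, .d, .e])
  (V := [.a, .f, .e, .d, .b, .c, .b, .c, .f, .d, .b, .e, .a]) (by decide +kernel)
theorem p6B : P2 (wd W17) (wd x6B) := p_of (U := [.d, .b, .c, .g, .d, .b, .g])
  (V := [.d, .b, .c, .g, .d, .b, .d, .a, .c, .g, .e, .b, .d, .g, .e]) (by decide +kernel)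
theorem p14A : P2 (wd W17) (wd x14A) := p_of (U := [.c, .b, .g, .d])
  (V := [.c, .b, .a, .d, .b, .f, .g, .a]) (by decide +kernel)
theorem p14C : P2 (wd W17) (wd x14C) := p_of (U := [.e, .d, .e, .b])
  (V := [.e, .d, .e, .b, .c, .a, .g, .b, .c, .d, .b, .f, .g, .d]) (by decide +kernel)
theorem p15A : P2 (wd W17) (wd x15A) := p_of (U := [.f, .g, .d, .e])
  (V := [.f, .g, .d, .e, .b, .c, .d, .b, .g, .c, .f]) (by decide +kernel)
theorem p21A : P2 (wd W17) (wd x21A) := p_of (U := [.c, .b, .f, .c])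
  (V := [.c, .e, .a]) (by decide +kernel)
theorem p21C : P2 (wd W17) (wd x21C) := p_of (U := [.c, .d, .g, .f, .d, .g, .b])
  (V := [.c, .d, .g, .f, .d, .g, .b, .g, .d, .c, .e, .d, .c, .f, .g]) (by decide +kernel)
theorem p28A : P2 (wd W17) (wd x28A) := p_of (U := [.c, .d, .b, .c, .d, .f, .c, .g])
  (V := [.c, .d, .b, .c, .d, .f, .c, .g, .b, .c, .a, .b, .e, .d, .a, .f, .c, .b, .d, .g, .e]) (by decide +kernel)
theorem pBq : P2 (wd W17) (wd XB) := p_of (U := [.c])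
  (V := [.b, .f]) (by decide +kernel)
theorem pCq : P2 (wd W17) (wd XC) := p_of (U := [.c, .d, .c, .b, .c, .d, .a, .g])
  (V := [.c, .d, .c, .b, .d, .c, .e]) (by decide +kernel)
theorem p21B : P2 (wd W17) (wd x21A ^ 2) := by
  rw [← wd_pw]
  exact p_of (U := [.a, .d, .f]) (V := [.d]) (by decide +kernel)
theorem p17A : P2 (wd W17) (wd W17) := p_of (U := [.b, .d])
  (V := [.b, .f]) (by decide +kernel)
theorem p17B : P2 (wd W17) (wd W17 ^ 3) := by
  rw [← wd_pw]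
  exact p_of (U := [.d]) (V := [.c, .b, .c]) (by decide +kernel)

theorem sq_step {k : ℕ} (h : P2 (wd W17) (wd W17 ^ k)) : P2 (wd W17) (wd W17 ^ (2 * k)) := by
  refine h.conj (isConj_iff.2 ⟨wd t17, ?_⟩)
  rw [← conj_pow, t17_conj, ← pow_mul]

theorem mod_step {k l : ℕ} (h : P2 (wd W17) (wd W17 ^ k)) (e : k % 17 = l % 17) : P2 (wd W17) (wd W17 ^ l) := by
  rw [← pow_mod_orderOf, o17, ← e, ← o17, pow_mod_orderOf]
  exact h

theorem p17 {a : Cfsg.Spor.He} (h : a ∈ zpowers (wd W17)) : P2 (wd W17) a := by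
  have h1 : P2 (wd W17) (wd W17 ^ 1) := by rw [pow_one]; exact p17A
  have h2 := sq_step h1
  have h4 := sq_step h2
  have h8 := sq_step h4
  have h16 := sq_step h8
  have h15 := sq_step h16
  have h13 := sq_step h15
  have h9 := sq_step h13
  have h3 := p17B
  have h6 := sq_step h3
  have h12 := sq_step h6
  have h7 := sq_step h12
  have h14 := sq_step h7
  have h11 := sq_step h14
  have h5 := sq_step h11
  have h10 := sq_step h5
  have hfin : Finite Cfsg.Spor.He := finite_he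
  obtain ⟨k, rfl⟩ := (mem_powers_iff_mem_zpowers (x := wd W17)).2 h
  have hk : k % 17 < 17 := Nat.mod_lt _ (by norm_num)
  show P2 (wd W17) (wd W17 ^ k)
  generalize hj : k % 17 = j at hk
  interval_cases j
  · have h0 : wd W17 ^ k = 1 := by
      rw [← pow_mod_orderOf, o17, hj, pow_zero]
    rw [h0]
    exact P2.one w_inv
  · exact mod_step h1 (by omega)
  · exact mod_step h2 (by omega)
  · exact mod_step h3 (by omega)
  · exact mod_step h4 (by omega)
  · exact mod_step h5 (by omega)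
  · exact mod_step h6 (by omega)
  · exact mod_step h7 (by omega)
  · exact mod_step h8 (by omega)
  · exact mod_step h9 (by omega)
  · exact mod_step h10 (by omega)
  · exact mod_step h11 (by omega)
  · exact mod_step h12 (by omega)
  · exact mod_step h13 (by omega)
  · exact mod_step h14 (by omega)
  · exact mod_step h15 (by omega)
  · exact mod_step h16 (by omega)

/-- every element is a product of two conjugates of `wd W17` -/
theorem p_all (g : Cfsg.Spor.He) : P2 (wd W17) g := by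
  refine all_model (P2 (wd W17)) (fun x y h k => k.conj h) (fun a ha => p17 ha) (fun a b ha hb p hp => ?_) g
  simp only [L, List.mem_cons, List.not_mem_nil, or_false] at hp
  rcases hp with rfl | rfl | rfl | rfl | rfl | rfl | rfl | rfl | rfl | rfl | rfl | rfl | rfl | rfl | rfl | rfl | rfl | rfl | rfl | rfl | rfl | rfl | rfl | rfl | rfl | rfl | rfl | rfl | rfl | rfl | rfl | rfl | rfl
  · exact ha
  · exact hb
  · exact P2.one w_inv
  · exact p21A
  · exact p21B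
  · exact p2A
  · exact p2B
  · exact p3A
  · exact pBq
  · exact p4A
  · exact p4B
  · exact p4C
  · exact p6A
  · exact p6B
  · exact p12A
  · exact p12B
  · exact p5A
  · exact p8A
  · exact p10A
  · exact p15A
  · exact p14A
  · exact p14A.inv w_inv
  · exact p14C
  · exact p14C.inv w_inv
  · exact p28A
  · exact p28A.inv w_inv
  · exact p7A
  · exact p7A.inv w_inv
  · exact pCq
  · exact p7D
  · exact p7D.inv w_inv
  · exact p21C
  · exact p21C.inv w_inv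

/-- **S4173, S2464, S2452 for `He`** -/
theorem row3_he {S : Type*} [Group S] (h : Cfsg.Spor.IsoHe S) : Cfsg.Agent.H210.TC.Row3 S := by
  obtain ⟨e⟩ := h
  refine Cfsg.Agent.H210.TC.Row3.of_equiv e (Cfsg.Agent.H210.TC.Row3.of_sq (x := wd W17) ?_ ?_ fun g _ => p_all g)
  · rw [o17]; norm_num
  · rw [o17]; norm_num

end Cfsg.Agent.H235.TC.He

/-! ### The McLaughlin group -/

namespace Cfsg.Agent.H235.TC.McL

open Cfsg.Agent.McLType.Gens Cfsg.Agent.H904.McLCent Cfsg.Agent.H235.Ore.Eng Cfsg.Agent.H235.Ore.McLM Subgroup Equiv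
open Cfsg.Agent.H235.Ore.McL Cfsg.Agent.H235.TC.Sp

universe u

theorem p2_cj {x g : ↥K0} (hx : T * (x : Perm (Fin 275)) = x * T) (m : ↥M2) (h : P2 x g) : P2 x (cj m g) := by
  obtain ⟨u, v, rfl⟩ := h
  have key : ∀ u : ↥K0, ∃ u' : ↥K0, cj m (u * x * u⁻¹) = u' * x * u'⁻¹ := by
    intro u
    rcases mem_M2.1 m.2 with h | h
    · refine ⟨⟨m, h⟩ * u, Subtype.ext ?_⟩
      show (m : Perm (Fin 275)) * (u * x * (u : Perm (Fin 275))⁻¹) * (m : Perm (Fin 275))⁻¹ =
        (m * u) * x * ((m : Perm (Fin 275)) * u)⁻¹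
      group
    · refine ⟨⟨m * T, h⟩ * ⟨T * u * T, T_conj_mem u.2⟩, Subtype.ext ?_⟩
      show (m : Perm (Fin 275)) * (u * x * (u : Perm (Fin 275))⁻¹) * (m : Perm (Fin 275))⁻¹ =
        (m * T * (T * u * T)) * x * ((m : Perm (Fin 275)) * T * (T * u * T))⁻¹
      have e1 : (m : Perm (Fin 275)) * T * (T * u * T) = m * u * T := by
        rw [show (m : Perm (Fin 275)) * T * (T * u * T) = m * (T * T) * u * T by group, T_sq, mul_one]
      have e2 : T * (x : Perm (Fin 275)) * T⁻¹ = x := by rw [hx, mul_inv_cancel_right]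
      rw [e1, show (m : Perm (Fin 275)) * u * T * x * ((m : Perm (Fin 275)) * u * T)⁻¹ =
        m * (u * (T * x * T⁻¹) * (u : Perm (Fin 275))⁻¹) * (m : Perm (Fin 275))⁻¹ by group, e2]
  obtain ⟨u', hu⟩ := key u
  obtain ⟨v', hv⟩ := key v
  exact ⟨u', v', by rw [map_mul, hu, hv]⟩

/-- both `g` and its inverse are products of two conjugates of `x`, or `g = 1` -/
def PP (x g : ↥K0) : Prop := g = 1 ∨ (P2 x g ∧ P2 x g⁻¹)

theorem pp_cj {x g : ↥K0} (hx : T * (x : Perm (Fin 275)) = x * T) (m : ↥M2) (h : PP x g) : PP x (cj m g) := by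
  rcases h with rfl | ⟨h, h'⟩
  · exact Or.inl (map_one _)
  · exact Or.inr ⟨p2_cj hx m h, by rw [← map_inv]; exact p2_cj hx m h'⟩

theorem all_model' (P : ↥K0 → Prop) (hP : ∀ (m : ↥M2), ∀ g, P g → P (cj m g)) (h1 : P 1)
    (hi : P (wk x11A) → P (wk x11A)⁻¹) (h2A : P (wk x2A)) (h3A : P (wk x3A)) (h3B : P (wk x3B)) (h4A : P (wk x4A))
    (h5A : P (wk x5A)) (h5B : P (wk x5B)) (h6A : P (wk x6A)) (h6B : P (wk x6B)) (h7A : P (wk x7A)) (h8A : P (wk x8A))
    (h9A : P (wk x9A)) (h10A : P (wk x10A)) (h11A : P (wk x11A)) (h12A : P (wk x12A)) (h14A : P (wk x14A))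
    (h15A : P (wk x15A)) (h30A : P (wk x30A)) (g : ↥K0) : P g := by
  obtain ⟨p, hp, hpg⟩ := classes (g := ⟨g, K0_le_M2 g.2⟩) (by rw [K, mem_subgroupOf]; exact g.2)
  obtain ⟨c, hc⟩ := isConj_iff.1 hpg
  have key : ∀ y : ↥K0, (y : Perm (Fin 275)) = p.1 → P y → P g := by
    intro y hy hPy
    have e : cj c y = g := by
      apply Subtype.ext
      show (c : Perm (Fin 275)) * y * (c : Perm (Fin 275))⁻¹ = g
      rw [hy]
      exact congrArg Subtype.val hc
    rw [← e]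
    exact hP c y hPy
  simp only [L, List.mem_cons, List.not_mem_nil, or_false] at hp
  rcases hp with rfl | rfl | rfl | rfl | rfl | rfl | rfl | rfl | rfl | rfl | rfl | rfl | rfl | rfl | rfl | rfl | rfl | rfl | rfl
  · exact key 1 rfl h1
  · exact key _ rfl h11A
  · exact key (wk x11A)⁻¹ rfl (hi h11A)
  · exact key _ rfl h2A
  · exact key _ rfl h3A
  · exact key _ rfl h3B
  · exact key _ rfl h4A
  · exact key _ rfl h5A
  · exact key _ rfl h5B
  · exact key _ rfl h6A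
  · exact key _ rfl h6B
  · exact key _ rfl h7A
  · exact key _ rfl h8A
  · exact key _ rfl h9A
  · exact key _ rfl h10A
  · exact key _ rfl h12A
  · exact key _ rfl h14A
  · exact key _ rfl h15A
  · exact key _ rfl h30A

theorem p_of {X U V U' V' : List ℕ}
    (h : chkB X (U ++ (x11A ++ (U.reverse ++ (V ++ (x11A ++ V.reverse))))) = true)
    (h' : chkB X.reverse (U' ++ (x11A ++ (U'.reverse ++ (V' ++ (x11A ++ V'.reverse))))) = true) :
    PP (wk x11A) (wk X) := by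
  have h1 := wk_eq h
  have h2 := wk_eq h'
  rw [wk_append, wk_append, wk_append, wk_append, wk_append, wk_reverse, wk_reverse] at h1
  rw [wk_append, wk_append, wk_append, wk_append, wk_append, wk_reverse, wk_reverse, wk_reverse] at h2
  exact Or.inr ⟨⟨wk U, wk V, by rw [h1]; group⟩, ⟨wk U', wk V', by rw [h2]; group⟩⟩

theorem p2A : PP (wk x11A) (wk x2A) := p_of (U := [2, 1, 2]) (V := [6, 4, 0])
  (U' := [2, 6, 5]) (V' := [2, 6, 3, 1]) (by decide +kernel) (by decide +kernel)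
theorem p3A : PP (wk x11A) (wk x3A) := p_of (U := [4, 1, 6, 3, 0]) (V := [4, 1, 6, 3, 0, 5, 2, 3, 4, 3, 0, 4, 3, 1, 0, 6, 3, 1])
  (U' := [6, 4, 5, 3, 2]) (V' := [6, 4, 5, 3, 2, 3, 2, 0, 1, 6, 3, 5, 2, 0]) (by decide +kernel) (by decide +kernel)
theorem p3B : PP (wk x11A) (wk x3B) := p_of (U := [6, 4, 0]) (V := [1, 0])
  (U' := [0, 6, 0, 4]) (V' := [0, 1, 0]) (by decide +kernel) (by decide +kernel)
theorem p4A : PP (wk x11A) (wk x4A) := p_of (U := [5, 4, 6, 1]) (V := [5, 0])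
  (U' := [3]) (V' := [5, 1, 0]) (by decide +kernel) (by decide +kernel)
theorem p5A : PP (wk x11A) (wk x5A) := p_of (U := [0, 3, 2, 4, 5]) (V := [0, 3, 2, 4, 3, 4, 1, 4, 2])
  (U' := [0, 1, 5, 2, 4, 5]) (V' := [0, 1, 5, 2, 3, 1, 4, 3, 2]) (by decide +kernel) (by decide +kernel)
theorem p5B : PP (wk x11A) (wk x5B) := p_of (U := [5, 4, 6, 3, 1, 2, 0]) (V := [5, 4, 6, 3, 1, 2, 1])
  (U' := [1, 5, 6, 4, 3, 2, 5]) (V' := [1, 5, 6, 4, 3, 0, 4, 6, 0, 2]) (by decide +kernel) (by decide +kernel)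
theorem p6A : PP (wk x11A) (wk x6A) := p_of (U := [5, 4, 5, 1]) (V := [5, 4, 1, 3, 6, 3, 5])
  (U' := [2, 4, 3, 1]) (V' := [2, 4, 3, 1, 5, 3, 6, 3, 5]) (by decide +kernel) (by decide +kernel)
theorem p6B : PP (wk x11A) (wk x6B) := p_of (U := [1, 0, 6, 3, 4]) (V := [1, 0, 6, 3, 6, 0, 2, 1, 2])
  (U' := [1, 5, 4, 5]) (V' := [1, 5, 4, 2, 3, 0, 6, 3, 5]) (by decide +kernel) (by decide +kernel)
theorem p7A : PP (wk x11A) (wk x7A) := p_of (U := [4, 5, 6, 0, 4, 6]) (V := [4, 1, 5, 1, 2, 1, 4])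
  (U' := [4, 5, 2, 6, 1, 6]) (V' := [4, 5, 4, 1, 0]) (by decide +kernel) (by decide +kernel)
theorem p8A : PP (wk x11A) (wk x8A) := p_of (U := [3, 1, 5, 4, 5]) (V := [3, 1, 5, 4, 3, 4, 1, 2, 0, 1])
  (U' := [6, 5, 4, 6, 0, 2]) (V' := [6, 5, 4, 6, 1, 0, 2, 3]) (by decide +kernel) (by decide +kernel)
theorem p9A : PP (wk x11A) (wk x9A) := p_of (U := [1, 6, 2, 0]) (V := [1, 6, 2, 0, 5, 1, 0, 4, 5, 3, 2])
  (U' := [4, 1, 6, 3, 6, 4]) (V' := [4, 1, 6, 3, 2, 0, 1, 4]) (by decide +kernel) (by decide +kernel)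
theorem p10A : PP (wk x11A) (wk x10A) := p_of (U := [6, 4, 5, 2, 5]) (V := [6, 4, 5, 3, 4, 5, 2])
  (U' := [2, 1, 2, 3]) (V' := [3, 1, 5, 4, 1]) (by decide +kernel) (by decide +kernel)
theorem p11A : PP (wk x11A) (wk x11A) := p_of (U := [5, 0, 5, 1, 6, 3]) (V := [5, 0, 5, 1, 5, 0, 4, 5, 2])
  (U' := [2, 1, 6, 3, 4, 6]) (V' := [2, 1, 6, 3, 1, 5, 2, 4, 5]) (by decide +kernel) (by decide +kernel)
theorem p12A : PP (wk x11A) (wk x12A) := p_of (U := [2, 1, 0, 1]) (V := [2, 1, 0, 1, 5, 6, 4, 3, 5, 2])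
  (U' := [4, 0, 6]) (V' := [4, 0, 2, 5, 1, 6, 1, 2, 4, 5, 3, 0]) (by decide +kernel) (by decide +kernel)
theorem p14A : PP (wk x11A) (wk x14A) := p_of (U := [4, 6, 4]) (V := [2, 6])
  (U' := [4, 1]) (V' := [4, 5, 2, 1, 3]) (by decide +kernel) (by decide +kernel)
theorem p15A : PP (wk x11A) (wk x15A) := p_of (U := [4, 3, 0, 6, 3, 4]) (V := [4, 3, 0, 6, 0, 6, 4, 1, 4])
  (U' := [1, 4, 0]) (V' := [1, 4, 0, 3, 0, 2, 1, 4, 1]) (by decide +kernel) (by decide +kernel)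
theorem p30A : PP (wk x11A) (wk x30A) := p_of (U := [0, 3, 5]) (V := [4, 6, 2, 0])
  (U' := [3, 0]) (V' := [3, 5, 1, 0, 2, 1, 0]) (by decide +kernel) (by decide +kernel)

theorem p_all (g : ↥K0) : PP (wk x11A) g := by
  refine all_model' (PP (wk x11A)) (fun m g h => pp_cj T_comm m h) (Or.inl rfl) (fun h => ?_) p2A p3A p3B p4A p5A p5B
    p6A p6B p7A p8A p9A p10A p11A p12A p14A p15A p30A g
  rcases h with h | ⟨h, h'⟩
  · exact Or.inl (by rw [h, inv_one])
  · exact Or.inr ⟨h', by rwa [inv_inv]⟩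

/-- **S4173, S2464, S2452 for `McL`** -/
theorem row3_mcl {S : Type u} [Group S] (h : Cfsg.Spor.IsoMcL S) : Cfsg.Agent.H210.TC.Row3 S := by
  obtain ⟨e⟩ := exists_iso h
  have hx : orderOf (wk x11A) = 11 := by
    rw [← Subgroup.orderOf_coe]
    exact o11
  refine Cfsg.Agent.H210.TC.Row3.of_equiv e.symm (Cfsg.Agent.H210.TC.Row3.of_sq (x := wk x11A) ?_ ?_ fun g hg => ?_)
  · rw [hx]; norm_num
  · rw [hx]; norm_num
  · rcases p_all g with h | ⟨h, -⟩
    · exact absurd h hg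
    · exact h

end Cfsg.Agent.H235.TC.McL
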